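import Mathlib
import Cfsg.Agent.Lib.Helper83.SnB.Q8MDefs

/-!
S2986, package [Q8-M], sub-package [M-SXN] (helper95): `A_E = A_F`, `E` exceptional, `F` not:
impossible.
-/

set_option autoImplicit false

namespace Cfsg.Agent.Lib.Helper95.SnB

open Cfsg Cfsg.Agent.Lib.Helper41.SnB Cfsg.Agent.Lib.Helper34.SnB Cfsg.Agent.Lib.Helper83.SnB

universe u

/-- [M-SXN] -/
theorem pkgSXN : PkgSXN.{u} := by
  intro G _ _ p _ S₀ E F KE KF zE zF gf oE oF hA xE nF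
  obtain ⟨hQF, -, -⟩ := nF
  have hzEE : zE ∈ E := oE.q8.KX oE.q8.zK
  have hzFF : zF ∈ F := oF.q8.KX oF.q8.zK
  have hzES : zE ∈ S₀ := oE.q8.KS oE.q8.zK
  have hzFS : zF ∈ S₀ := oF.q8.KS oF.q8.zK
  have hzEN : zE ∈ Subgroup.normalizer (E : Set G) := Subgroup.le_normalizer hzEE
  have hAW : Ab p E ≤ Wb p E := oE.bf.AW
  have hWQ : Wb p E ≤ Qb p E := oE.bf.WQ
  have hQP : Qb p E ≤ pCore p G := oE.sb.QP
  have hF : ∀ c ∈ pCore p G, zF * c * zF⁻¹ * c⁻¹ ∈ Ab p E := by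
    intro c hc
    have h := oF.b1.PXQ zF hzFF c hc
    rw [hQF, ← hA] at h
    exact h
  obtain ⟨g, hg⟩ : ∃ g, g = zE * zF := ⟨_, rfl⟩
  have hgS : g ∈ S₀ := hg ▸ S₀.mul_mem hzES hzFS
  have hEA : ∀ a ∈ Ab p E, zE * a * zE⁻¹ ∈ Ab p E := fun a ha => oE.bf.nA zE hzEN a ha
  have hEQ : ∀ u ∈ Qb p E, zE * u * zE⁻¹ ∈ Qb p E := fun u hu => oE.bf.nQ zE hzEN u hu
  have hb : ∀ u ∈ Qb p E, g * u * g⁻¹ ∈ Qb p E := by
    intro u hu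
    have e : g * u * g⁻¹ = (zE * (zF * u * zF⁻¹ * u⁻¹) * zE⁻¹) * (zE * u * zE⁻¹) := by
      rw [hg]; group
    rw [e]
    exact (Qb p E).mul_mem (hWQ (hAW (hEA _ (hF u (hQP hu))))) (hEQ u hu)
  have hgA : ∀ a ∈ Ab p E, g * a = a * g := by
    intro a ha
    have h1 : zF * a * zF⁻¹ = a⁻¹ := oF.q8.invA a (hA ▸ ha)
    have h2 : zE * a⁻¹ * zE⁻¹ = a⁻¹⁻¹ := oE.q8.invA a⁻¹ ((Ab p E).inv_mem ha)
    have h3 : g * a * g⁻¹ = a := by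
      have e : g * a * g⁻¹ = zE * (zF * a * zF⁻¹) * zE⁻¹ := by rw [hg]; group
      rw [e, h1, h2, inv_inv]
    calc g * a = g * a * g⁻¹ * g := by group
      _ = a * g := by rw [h3]
  have hgW : ∀ w ∈ Wb p E, g * w * g⁻¹ * w⁻¹ ∈ Ab p E := by
    intro w hw
    have h1 : zE * w * zE⁻¹ * w⁻¹ ∈ Ab p E := by
      have h : w * zE * w⁻¹ * zE⁻¹ ∈ Ab p E := Subgroup.commutator_mem_commutator hw hzEE
      have e : zE * w * zE⁻¹ * w⁻¹ = (w * zE * w⁻¹ * zE⁻¹)⁻¹ := by group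
      rw [e]; exact (Ab p E).inv_mem h
    have e : g * w * g⁻¹ * w⁻¹ =
        (zE * (zF * w * zF⁻¹ * w⁻¹) * zE⁻¹) * (zE * w * zE⁻¹ * w⁻¹) := by
      rw [hg]; group
    rw [e]
    exact (Ab p E).mul_mem (hEA _ (hF w (hQP (hWQ hw)))) h1
  have hgWc : ∀ w ∈ Wb p E, g * w = w * g :=
    coprimeChain (Wb p E) (Ab p E) g (fun h hh => gf.Pp h (hQP (hWQ hh))) (gf.S2 g hgS)
      hAW hgA hgW
  refine xE.noInv g hgS hb ?_ ?_ ?_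
  · intro w hw
    have e : g * w * g⁻¹ * w⁻¹ = 1 := by rw [hgWc w hw]; group
    rw [e]; exact Subgroup.one_mem _
  · intro c hc u hu
    refine xE.QZ _ ?_ u hu
    have e : g * c * g⁻¹ * c⁻¹ =
        (zE * (zF * c * zF⁻¹ * c⁻¹) * zE⁻¹) * (zE * c * zE⁻¹ * c⁻¹) := by
      rw [hg]; group
    rw [e]
    exact (Qb p E).mul_mem (hWQ (hAW (hEA _ (hF c hc)))) (oE.b1.PXQ zE hzEE c hc)
  · intro u hu
    have e : g * u * g⁻¹ * u =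
        (zE * (zF * u * zF⁻¹ * u⁻¹) * zE⁻¹) * (zE * u * zE⁻¹ * u) := by
      rw [hg]; group
    rw [e]
    exact (Wb p E).mul_mem (hAW (hEA _ (hF u (hQP hu)))) (xE.exc.invQ u hu)

end Cfsg.Agent.Lib.Helper95.SnB
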