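import Mathlib
import Cfsg.Agent.Lib.Helper83.SnB.Q8MDefs

/-!
S2986, package [Q8-M], sub-package [M-SXXs] (helper95): `A_E = A_F`, both blocks exceptional,
`Q_E V = Q_F V`: then `z_E = z_F`.
-/

set_option autoImplicit false

namespace Cfsg.Agent.Lib.Helper95.SnB

open Cfsg Cfsg.Agent.Lib.Helper41.SnB Cfsg.Agent.Lib.Helper34.SnB Cfsg.Agent.Lib.Helper83.SnB

universe u

/-- [M-SXXs] -/
theorem pkgSXXs : PkgSXXs.{u} := by
  intro G _ _ p _ S₀ E F KE KF zE zF gf oE oF hA xE xF hS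
  have hzEE : zE ∈ E := oE.q8.KX oE.q8.zK
  have hzFF : zF ∈ F := oF.q8.KX oF.q8.zK
  have hzES : zE ∈ S₀ := oE.q8.KS oE.q8.zK
  have hzFS : zF ∈ S₀ := oF.q8.KS oF.q8.zK
  have hzEN : zE ∈ Subgroup.normalizer (E : Set G) := Subgroup.le_normalizer hzEE
  have hQP : Qb p E ≤ pCore p G := oE.sb.QP
  have hVn : (Vb p G).Normal := ⟨fun v hv g => gf.Vn g v hv⟩
  have hAV : Ab p E ≤ Vb p G := oE.sb.AV
  obtain ⟨g, hg⟩ : ∃ g, g = zE * zF := ⟨_, rfl⟩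
  have hgS : g ∈ S₀ := hg ▸ S₀.mul_mem hzES hzFS
  have hg2 := gf.S2 g hgS
  have hEA : ∀ a ∈ Ab p E, zE * a * zE⁻¹ ∈ Ab p E := fun a ha => oE.bf.nA zE hzEN a ha
  have hEQ : ∀ u ∈ Qb p E, zE * u * zE⁻¹ ∈ Qb p E := fun u hu => oE.bf.nQ zE hzEN u hu
  have hdec : ∀ c : G, g * c * g⁻¹ * c⁻¹ =
      (zE * (zF * c * zF⁻¹ * c⁻¹) * zE⁻¹) * (zE * c * zE⁻¹ * c⁻¹) := by
    intro c; rw [hg]; group
  -- step 1: `g` centralizes `A`
  have hgA : ∀ a ∈ Ab p E, g * a = a * g := by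
    intro a ha
    have h1 : zF * a * zF⁻¹ = a⁻¹ := oF.q8.invA a (hA ▸ ha)
    have h2 : zE * a⁻¹ * zE⁻¹ = a⁻¹⁻¹ := oE.q8.invA a⁻¹ ((Ab p E).inv_mem ha)
    have h3 : g * a * g⁻¹ = a := by
      have e : g * a * g⁻¹ = zE * (zF * a * zF⁻¹) * zE⁻¹ := by rw [hg]; group
      rw [e, h1, h2, inv_inv]
    calc g * a = g * a * g⁻¹ * g := by group
      _ = a * g := by rw [h3]
  -- step 2: `g` centralizes `V`
  have hgV : ∀ v ∈ Vb p G, g * v = v * g := by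
    refine coprimeChain (Vb p G) (Ab p E) g (fun h hh => gf.Pp h (gf.VP hh)) hg2 hAV hgA ?_
    intro v hv
    rw [hdec]
    have h1 : zF * v * zF⁻¹ * v⁻¹ ∈ Ab p E := by
      rw [hA]; exact oF.q8.VA v hv zF hzFF
    exact (Ab p E).mul_mem (hEA _ h1) (oE.q8.VA v hv zE hzEE)
  -- elements of `Q V`
  have hmemE : ∀ h ∈ Qb p E ⊔ Vb p G, ∃ u ∈ Qb p E, ∃ v ∈ Vb p G, h = u * v := by
    intro h hh
    have h' : h ∈ ((Qb p E ⊔ Vb p G : Subgroup G) : Set G) := hh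
    rw [Subgroup.mul_normal] at h'
    obtain ⟨u, hu, v, hv, rfl⟩ := Set.mem_mul.mp h'
    exact ⟨u, hu, v, hv, rfl⟩
  have hmemF : ∀ h ∈ Qb p F ⊔ Vb p G, ∃ u ∈ Qb p F, ∃ v ∈ Vb p G, h = u * v := by
    intro h hh
    have h' : h ∈ ((Qb p F ⊔ Vb p G : Subgroup G) : Set G) := hh
    rw [Subgroup.mul_normal] at h'
    obtain ⟨u, hu, v, hv, rfl⟩ := Set.mem_mul.mp h'
    exact ⟨u, hu, v, hv, rfl⟩
  have hQVP : Qb p E ⊔ Vb p G ≤ pCore p G := sup_le hQP gf.VP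
  -- step 3: `g` centralizes `Q V`
  have hgQV : ∀ h ∈ Qb p E ⊔ Vb p G, g * h = h * g := by
    refine coprimeChain (Qb p E ⊔ Vb p G) (Vb p G) g (fun h hh => gf.Pp h (hQVP hh)) hg2
      le_sup_right hgV ?_
    intro h hh
    obtain ⟨u, hu, v, hv, rfl⟩ := hmemE h hh
    have e : g * (u * v) * g⁻¹ * (u * v)⁻¹ = g * u * g⁻¹ * u⁻¹ := by
      have h1 : g * v * g⁻¹ = v := by rw [hgV v hv]; group
      calc g * (u * v) * g⁻¹ * (u * v)⁻¹ = g * u * g⁻¹ * (g * v * g⁻¹) * v⁻¹ * u⁻¹ := by group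
        _ = g * u * g⁻¹ * u⁻¹ := by rw [h1]; group
    rw [e]
    have huF : u ∈ Qb p F ⊔ Vb p G := by
      rw [← hS]; exact Subgroup.mem_sup_left hu
    obtain ⟨v', hv', t, ht, hu'⟩ := hmemF u huF
    have hs : zF * u * zF⁻¹ * u ∈ Vb p G := by
      have e2 : zF * u * zF⁻¹ * u =
          (zF * v' * zF⁻¹ * v') * (v'⁻¹ * (zF * t * zF⁻¹) * v'⁻¹⁻¹) * t := by
        rw [hu']; group
      rw [e2]
      exact (Vb p G).mul_mem ((Vb p G).mul_mem (xF.WV (xF.exc.invQ v' hv'))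
        (gf.Vn v'⁻¹ _ (gf.Vn zF t ht))) ht
    have e3 : g * u * g⁻¹ * u⁻¹ =
        (zE * (zF * u * zF⁻¹ * u) * zE⁻¹) * (zE * u⁻¹ * zE⁻¹ * u⁻¹) := by
      rw [hg]; group
    rw [e3]
    exact (Vb p G).mul_mem (gf.Vn zE _ hs)
      (xE.WV (xE.exc.invQ u⁻¹ ((Qb p E).inv_mem hu)))
  -- step 4: `g` centralizes `P`
  have hgP : ∀ c ∈ pCore p G, g * c = c * g := by
    refine coprimeChain (pCore p G) (Qb p E ⊔ Vb p G) g gf.Pp hg2 hQVP hgQV ?_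
    intro c hc
    rw [hdec]
    have h1 : zF * c * zF⁻¹ * c⁻¹ ∈ Qb p E ⊔ Vb p G := by
      rw [hS]; exact Subgroup.mem_sup_left (oF.b1.PXQ zF hzFF c hc)
    obtain ⟨u, hu, v, hv, huv⟩ := hmemE _ h1
    have h2 : zE * (zF * c * zF⁻¹ * c⁻¹) * zE⁻¹ ∈ Qb p E ⊔ Vb p G := by
      rw [huv]
      have e : zE * (u * v) * zE⁻¹ = (zE * u * zE⁻¹) * (zE * v * zE⁻¹) := by group
      rw [e]
      exact Subgroup.mul_mem _ (Subgroup.mem_sup_left (hEQ u hu))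
        (Subgroup.mem_sup_right (gf.Vn zE v hv))
    exact Subgroup.mul_mem _ h2 (Subgroup.mem_sup_left (oE.b1.PXQ zE hzEE c hc))
  have hg1 : g = 1 := gf.ST g hgS hgP
  have h1 : zE * zF = 1 := by rw [← hg]; exact hg1
  calc zE = zE * (zF * zF) := by rw [oF.q8.zz, mul_one]
    _ = (zE * zF) * zF := by group
    _ = zF := by rw [h1, one_mul]

end Cfsg.Agent.Lib.Helper95.SnB
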